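import Mathlib

set_option autoImplicit false
set_option linter.unusedSectionVars false
set_option linter.unusedVariables false
set_option linter.unusedSimpArgs false
set_option linter.style.haveILetI false
set_option maxHeartbeats 400000

/-!
# Elementary comparison lemmas for `ℕ`-indexed complexes of modules

Lifting a map to a chain map (projective source, exact target), and null-homotopies of chain maps
vanishing in degree `0`.
-/

universe u v

namespace Groth.Agent.Lib.Helper6.Wiebe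

section Lift

variable {R : Type u} [CommRing R]

/-- lifting a map from a projective module through a map whose range contains its values -/
theorem exists_lift_of_forall_exists {P X Y : Type*} [AddCommGroup P] [Module R P]
    [Module.Projective R P] [AddCommGroup X] [Module R X] [AddCommGroup Y] [Module R Y]
    (u : X →ₗ[R] Y) (g : P →ₗ[R] Y) (hg : ∀ p, ∃ x, u x = g p) :
    ∃ h : P →ₗ[R] X, ∀ p, u (h p) = g p := by
  let g' : P →ₗ[R] LinearMap.range u := g.codRestrict (LinearMap.range u) (fun p => by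
    obtain ⟨x, hx⟩ := hg p
    exact ⟨x, hx⟩)
  obtain ⟨h, hh⟩ := Module.projective_lifting_property u.rangeRestrict g'
    (LinearMap.surjective_rangeRestrict u)
  refine ⟨h, fun p => ?_⟩
  have := congrArg (fun φ => ((φ p : LinearMap.range u) : Y)) hh
  simpa [g'] using this

end Lift

section Chain

variable {R : Type u} [CommRing R]
variable {C D : ℕ → Type v} [∀ q, AddCommGroup (C q)] [∀ q, Module R (C q)]
  [∀ q, AddCommGroup (D q)] [∀ q, Module R (D q)]
variable (dC : ∀ q, C (q + 1) →ₗ[R] C q) (dD : ∀ q, D (q + 1) →ₗ[R] D q)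

/-- two consecutive components of a partially constructed chain map -/
structure Stage (q : ℕ) where
  lo : C q →ₗ[R] D q
  hi : C (q + 1) →ₗ[R] D (q + 1)
  comm : ∀ z, dD q (hi z) = lo (dC q z)

variable {dC dD}

theorem Stage.exists_next [hproj : ∀ q, Module.Projective R (C q)]
    (hC : ∀ q z, dC q (dC (q + 1) z) = 0)
    (hD : ∀ q (z : D (q + 1)), dD q z = 0 → ∃ w, dD (q + 1) w = z)
    {q : ℕ} (s : Stage dC dD q) :
    ∃ f2 : C (q + 2) →ₗ[R] D (q + 2), ∀ z, dD (q + 1) (f2 z) = s.hi (dC (q + 1) z) := by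
  refine exists_lift_of_forall_exists (dD (q + 1)) (s.hi ∘ₗ dC (q + 1)) (fun p => ?_)
  refine hD q _ ?_
  rw [LinearMap.comp_apply, s.comm, hC, map_zero]

/-- the next stage -/
noncomputable def Stage.next [hproj : ∀ q, Module.Projective R (C q)]
    (hC : ∀ q z, dC q (dC (q + 1) z) = 0)
    (hD : ∀ q (z : D (q + 1)), dD q z = 0 → ∃ w, dD (q + 1) w = z)
    {q : ℕ} (s : Stage dC dD q) : Stage dC dD (q + 1) where
  lo := s.hi
  hi := Classical.choose (s.exists_next hC hD)
  comm := Classical.choose_spec (s.exists_next hC hD)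

/-- all stages -/
noncomputable def Stage.seq [hproj : ∀ q, Module.Projective R (C q)]
    (hC : ∀ q z, dC q (dC (q + 1) z) = 0)
    (hD : ∀ q (z : D (q + 1)), dD q z = 0 → ∃ w, dD (q + 1) w = z)
    (s0 : Stage dC dD 0) : ∀ q, Stage dC dD q
  | 0 => s0
  | q + 1 => (Stage.seq hC hD s0 q).next hC hD

/-- **Comparison theorem, existence.** -/
theorem exists_chain_lift [hproj : ∀ q, Module.Projective R (C q)]
    (hC : ∀ q z, dC q (dC (q + 1) z) = 0)
    (hD : ∀ q (z : D (q + 1)), dD q z = 0 → ∃ w, dD (q + 1) w = z)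
    (f0 : C 0 →ₗ[R] D 0) (h0 : ∀ z : C 1, ∃ w : D 1, dD 0 w = f0 (dC 0 z)) :
    ∃ f : ∀ q, C q →ₗ[R] D q, f 0 = f0 ∧ ∀ q z, dD q (f (q + 1) z) = f q (dC q z) := by
  obtain ⟨f1, hf1⟩ := exists_lift_of_forall_exists (dD 0) (f0 ∘ₗ dC 0) h0
  let s0 : Stage dC dD 0 := ⟨f0, f1, hf1⟩
  refine ⟨fun q => (Stage.seq hC hD s0 q).lo, rfl, fun q z => ?_⟩
  exact (Stage.seq hC hD s0 q).comm z

variable (f : ∀ q, C q →ₗ[R] D q)

/-- a stage of a partially constructed null-homotopy -/
structure HStage (dC : ∀ q, C (q + 1) →ₗ[R] C q) (dD : ∀ q, D (q + 1) →ₗ[R] D q)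
    (f : ∀ q, C q →ₗ[R] D q) (q : ℕ) where
  h : C q →ₗ[R] D (q + 1)
  inv : ∀ z : C (q + 1), dD q (f (q + 1) z - h (dC q z)) = 0

variable {f}

theorem HStage.exists_next [hproj : ∀ q, Module.Projective R (C q)]
    (hD : ∀ q (z : D (q + 1)), dD q z = 0 → ∃ w, dD (q + 1) w = z)
    {q : ℕ} (s : HStage dC dD f q) :
    ∃ h' : C (q + 1) →ₗ[R] D (q + 2), ∀ z, dD (q + 1) (h' z) = f (q + 1) z - s.h (dC q z) := by
  refine exists_lift_of_forall_exists (dD (q + 1)) (f (q + 1) - s.h ∘ₗ dC q) (fun p => ?_)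
  exact hD q _ (s.inv p)

noncomputable def HStage.next [hproj : ∀ q, Module.Projective R (C q)]
    (hC : ∀ q z, dC q (dC (q + 1) z) = 0)
    (hD : ∀ q (z : D (q + 1)), dD q z = 0 → ∃ w, dD (q + 1) w = z)
    (hf : ∀ q z, dD q (f (q + 1) z) = f q (dC q z))
    {q : ℕ} (s : HStage dC dD f q) : HStage dC dD f (q + 1) where
  h := Classical.choose (s.exists_next hD)
  inv z := by
    have h1 := Classical.choose_spec (s.exists_next hD) (dC (q + 1) z)
    rw [map_sub, h1, hf, hC, map_zero, sub_zero, sub_self]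

theorem HStage.next_spec [hproj : ∀ q, Module.Projective R (C q)]
    (hC : ∀ q z, dC q (dC (q + 1) z) = 0)
    (hD : ∀ q (z : D (q + 1)), dD q z = 0 → ∃ w, dD (q + 1) w = z)
    (hf : ∀ q z, dD q (f (q + 1) z) = f q (dC q z))
    {q : ℕ} (s : HStage dC dD f q) (z : C (q + 1)) :
    dD (q + 1) ((s.next hC hD hf).h z) = f (q + 1) z - s.h (dC q z) :=
  Classical.choose_spec (s.exists_next hD) z

noncomputable def HStage.seq [hproj : ∀ q, Module.Projective R (C q)]
    (hC : ∀ q z, dC q (dC (q + 1) z) = 0)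
    (hD : ∀ q (z : D (q + 1)), dD q z = 0 → ∃ w, dD (q + 1) w = z)
    (hf : ∀ q z, dD q (f (q + 1) z) = f q (dC q z))
    (s0 : HStage dC dD f 0) : ∀ q, HStage dC dD f q
  | 0 => s0
  | q + 1 => (HStage.seq hC hD hf s0 q).next hC hD hf

/-- **Comparison theorem, uniqueness up to homotopy** (for a chain map vanishing in degree `0`). -/
theorem exists_homotopy [hproj : ∀ q, Module.Projective R (C q)]
    (hC : ∀ q z, dC q (dC (q + 1) z) = 0)
    (hD : ∀ q (z : D (q + 1)), dD q z = 0 → ∃ w, dD (q + 1) w = z)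
    (hf : ∀ q z, dD q (f (q + 1) z) = f q (dC q z)) (hf0 : f 0 = 0) :
    ∃ h : ∀ q, C q →ₗ[R] D (q + 1),
      ∀ q z, f (q + 1) z = dD (q + 1) (h (q + 1) z) + h q (dC q z) := by
  let s0 : HStage dC dD f 0 := ⟨0, fun z => by
    rw [LinearMap.zero_apply, sub_zero, hf, hf0, LinearMap.zero_apply]⟩
  refine ⟨fun q => (HStage.seq hC hD hf s0 q).h, fun q z => ?_⟩
  have := (HStage.seq hC hD hf s0 q).next_spec hC hD hf z
  show f (q + 1) z = dD (q + 1) (((HStage.seq hC hD hf s0 q).next hC hD hf).h z) + _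
  rw [this]
  abel

end Chain

end Groth.Agent.Lib.Helper6.Wiebe
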