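import Mathlib
import Groth.Agent.Lib.Helper6.Poincare.Wedge
import Groth.Agent.Lib.Helper6.ExtStab.ESa

set_option autoImplicit false
set_option linter.unusedSectionVars false
set_option linter.unusedVariables false
set_option linter.unusedSimpArgs false
set_option linter.style.haveILetI false
set_option maxHeartbeats 400000

/-!
# Contraction on the exterior algebra: naturality, Leibniz rule, splitting off one coordinate
-/

universe u v

namespace Groth.Agent.Lib.Helper6.Wiebe

open ExteriorAlgebra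

section Basic

variable {R : Type u} [CommRing R] {M N : Type v} [AddCommGroup M] [Module R M]
  [AddCommGroup N] [Module R N]

/-- contraction with a linear form on the exterior algebra -/
noncomputable abbrev cL (φ : Module.Dual R M) : ExteriorAlgebra R M →ₗ[R] ExteriorAlgebra R M :=
  CliffordAlgebra.contractLeft (Q := (0 : QuadraticForm R M)) φ

theorem cL_ι_mul (φ : Module.Dual R M) (m : M) (z : ExteriorAlgebra R M) :
    cL φ (ι R m * z) = φ m • z - ι R m * cL φ z :=
  CliffordAlgebra.contractLeft_ι_mul (Q := (0 : QuadraticForm R M)) φ m z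

theorem cL_algebraMap (φ : Module.Dual R M) (r : R) :
    cL φ (algebraMap R (ExteriorAlgebra R M) r) = 0 :=
  CliffordAlgebra.contractLeft_algebraMap (Q := (0 : QuadraticForm R M)) φ r

theorem cL_one (φ : Module.Dual R M) : cL φ (1 : ExteriorAlgebra R M) = 0 :=
  CliffordAlgebra.contractLeft_one (Q := (0 : QuadraticForm R M)) φ

theorem cL_cL (φ : Module.Dual R M) (z : ExteriorAlgebra R M) : cL φ (cL φ z) = 0 :=
  CliffordAlgebra.contractLeft_contractLeft (Q := (0 : QuadraticForm R M)) φ z

theorem cL_add_form (φ ψ : Module.Dual R M) (z : ExteriorAlgebra R M) :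
    cL (φ + ψ) z = cL φ z + cL ψ z := by
  show CliffordAlgebra.contractLeft (Q := (0 : QuadraticForm R M)) (φ + ψ) z = _
  rw [map_add]
  rfl

theorem cL_smul_form (r : R) (φ : Module.Dual R M) (z : ExteriorAlgebra R M) :
    cL (r • φ) z = r • cL φ z := by
  show CliffordAlgebra.contractLeft (Q := (0 : QuadraticForm R M)) (r • φ) z = _
  rw [map_smul]
  rfl

theorem cL_zero_form (z : ExteriorAlgebra R M) : cL (0 : Module.Dual R M) z = 0 := by
  show CliffordAlgebra.contractLeft (Q := (0 : QuadraticForm R M)) 0 z = _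
  rw [map_zero]
  rfl

theorem cL_sum_form {ι' : Type*} (s : Finset ι') (φ : ι' → Module.Dual R M)
    (z : ExteriorAlgebra R M) : cL (∑ i ∈ s, φ i) z = ∑ i ∈ s, cL (φ i) z := by
  show CliffordAlgebra.contractLeft (Q := (0 : QuadraticForm R M)) (∑ i ∈ s, φ i) z = _
  rw [map_sum, LinearMap.sum_apply]

/-- naturality of contraction -/
theorem cL_map (f : M →ₗ[R] N) (φ : Module.Dual R N) (z : ExteriorAlgebra R M) :
    cL φ (map f z) = map f (cL (φ ∘ₗ f) z) := by
  induction z using CliffordAlgebra.left_induction with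
  | algebraMap r =>
    rw [show (algebraMap R (CliffordAlgebra (0 : QuadraticForm R M)) r) =
      algebraMap R (ExteriorAlgebra R M) r from rfl, AlgHom.commutes, cL_algebraMap, cL_algebraMap,
      map_zero]
  | add x y hx hy => rw [map_add, map_add, hx, hy, map_add, map_add]
  | ι_mul x m hx =>
    rw [show CliffordAlgebra.ι (0 : QuadraticForm R M) m = ι R m from rfl, map_mul, map_apply_ι,
      cL_ι_mul, cL_ι_mul, hx, map_sub, map_smul, map_mul, map_apply_ι, LinearMap.comp_apply]

/-- the grade involution -/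
noncomputable abbrev inv' : ExteriorAlgebra R M →ₐ[R] ExteriorAlgebra R M :=
  CliffordAlgebra.involute (Q := (0 : QuadraticForm R M))

theorem inv'_ι (m : M) : inv' (ι R m) = -ι R m :=
  CliffordAlgebra.involute_ι (Q := (0 : QuadraticForm R M)) m

/-- Leibniz rule -/
theorem cL_mul (φ : Module.Dual R M) (z w : ExteriorAlgebra R M) :
    cL φ (z * w) = cL φ z * w + inv' z * cL φ w := by
  induction z using CliffordAlgebra.left_induction with
  | algebraMap r =>
    rw [show (algebraMap R (CliffordAlgebra (0 : QuadraticForm R M)) r) =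
      algebraMap R (ExteriorAlgebra R M) r from rfl, cL_algebraMap, zero_mul, zero_add,
      AlgHom.commutes, ← Algebra.smul_def, ← Algebra.smul_def, map_smul]
  | add x y hx hy => rw [add_mul, map_add, hx, hy, map_add, map_add, add_mul, add_mul]; abel
  | ι_mul x m hx =>
    rw [show CliffordAlgebra.ι (0 : QuadraticForm R M) m = ι R m from rfl, mul_assoc, cL_ι_mul,
      hx, cL_ι_mul, map_mul, inv'_ι, sub_mul, smul_mul_assoc, mul_add, neg_mul, neg_mul,
      mul_assoc, mul_assoc]
    abel

end Basic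

section Degree

variable {R : Type u} [CommRing R] {M N : Type v} [AddCommGroup M] [Module R M]
  [AddCommGroup N] [Module R N]

theorem map_mem (f : M →ₗ[R] N) {q : ℕ} {z : ExteriorAlgebra R M} (hz : z ∈ ⋀[R]^q M) :
    map f z ∈ ⋀[R]^q N := by
  have := Groth.Agent.Lib.Helper6.ExtStab.coe_map f (⟨z, hz⟩ : ⋀[R]^q M)
  rw [← this]
  exact Subtype.property _

theorem ι_mul_mem (m : M) {q : ℕ} {z : ExteriorAlgebra R M} (hz : z ∈ ⋀[R]^q M) :
    ι R m * z ∈ ⋀[R]^(q + 1) M := by
  rw [ExteriorAlgebra.exteriorPower, pow_succ']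
  exact Submodule.mul_mem_mul (LinearMap.mem_range_self _ _) hz

theorem cL_mem (φ : Module.Dual R M) {q : ℕ} {z : ExteriorAlgebra R M}
    (hz : z ∈ ⋀[R]^(q + 1) M) : cL φ z ∈ ⋀[R]^q M :=
  Groth.Agent.Lib.Helper6.Poincare.contractLeft_mem φ q z hz

theorem mem_zero_iff {z : ExteriorAlgebra R M} :
    z ∈ ⋀[R]^0 M ↔ ∃ r : R, algebraMap R (ExteriorAlgebra R M) r = z := by
  rw [ExteriorAlgebra.exteriorPower, pow_zero, Submodule.mem_one]

theorem cL_eq_zero_of_mem_zero (φ : Module.Dual R M) {z : ExteriorAlgebra R M}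
    (hz : z ∈ ⋀[R]^0 M) : cL φ z = 0 := by
  obtain ⟨r, rfl⟩ := mem_zero_iff.1 hz
  exact cL_algebraMap φ r

end Degree

section Split

variable {R : Type u} [CommRing R] {M M' : Type v} [AddCommGroup M] [Module R M]
  [AddCommGroup M'] [Module R M']

/-- `M' = R e₀ ⊕ M` -/
structure SplitData (incl : M →ₗ[R] M') (pr : M' →ₗ[R] M) (e0 : M') (ε0 : Module.Dual R M') :
    Prop where
  pr_incl : ∀ m, pr (incl m) = m
  pr_e0 : pr e0 = 0
  ε0_e0 : ε0 e0 = 1
  ε0_incl : ∀ m, ε0 (incl m) = 0
  decomp : ∀ m', m' = ε0 m' • e0 + incl (pr m')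

variable {incl : M →ₗ[R] M'} {pr : M' →ₗ[R] M} {e0 : M'} {ε0 : Module.Dual R M'}
  (h : SplitData incl pr e0 ε0)

include h

theorem SplitData.pr_comp_incl : pr ∘ₗ incl = LinearMap.id :=
  LinearMap.ext h.pr_incl

theorem SplitData.π_J (a : ExteriorAlgebra R M) : map pr (map incl a) = a := by
  have := ExteriorAlgebra.map_comp_map (R := R) incl pr
  rw [h.pr_comp_incl, ExteriorAlgebra.map_id] at this
  exact congrArg (fun φ => φ a) this

theorem SplitData.cL_J (a : ExteriorAlgebra R M) : cL ε0 (map incl a) = 0 := by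
  rw [cL_map]
  have : ε0 ∘ₗ incl = 0 := LinearMap.ext h.ε0_incl
  rw [this, cL_zero_form, map_zero]

theorem SplitData.π_e0 : map pr (ι R e0) = 0 := by
  rw [map_apply_ι, h.pr_e0, map_zero]

theorem SplitData.snd_formula (a b : ExteriorAlgebra R M) :
    map pr (ι R e0 * map incl a + map incl b) = b := by
  rw [map_add, map_mul, h.π_e0, zero_mul, zero_add, h.π_J]

theorem SplitData.fst_formula (a b : ExteriorAlgebra R M) :
    map pr (cL ε0 (ι R e0 * map incl a + map incl b)) = a := by
  rw [map_add, cL_ι_mul, h.cL_J, h.cL_J, mul_zero, sub_zero, add_zero, h.ε0_e0, one_smul, h.π_J]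

/-- contraction in split coordinates -/
theorem SplitData.cL_split (φ' : Module.Dual R M') (a b : ExteriorAlgebra R M) :
    cL φ' (ι R e0 * map incl a + map incl b) =
      ι R e0 * map incl (-cL (φ' ∘ₗ incl) a) + map incl (φ' e0 • a + cL (φ' ∘ₗ incl) b) := by
  rw [map_add, cL_ι_mul, cL_map, cL_map, map_neg, map_add, map_smul, mul_neg]
  abel

/-- the splitting identity -/
theorem SplitData.split_id (z : ExteriorAlgebra R M') :
    z = ι R e0 * map incl (map pr (cL ε0 z)) + map incl (map pr z) := by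
  induction z using CliffordAlgebra.left_induction with
  | algebraMap r =>
    rw [show (algebraMap R (CliffordAlgebra (0 : QuadraticForm R M')) r) =
      algebraMap R (ExteriorAlgebra R M') r from rfl, cL_algebraMap, map_zero, map_zero, mul_zero,
      zero_add, AlgHom.commutes, AlgHom.commutes]
  | add x y hx hy =>
    rw [map_add, map_add, map_add, map_add, map_add, mul_add]
    nth_rewrite 1 [hx, hy]
    abel
  | ι_mul w m' hw =>
    rw [show CliffordAlgebra.ι (0 : QuadraticForm R M') m' = ι R m' from rfl]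
    set A := map incl (map pr (cL ε0 w)) with hA
    set B := map incl (map pr w) with hB
    set μ := ι R (incl (pr m')) with hμ
    have hm : ι R m' = ε0 m' • ι R e0 + μ := by
      rw [hμ, ← map_smul, ← map_add, ← h.decomp m']
    have hanti : ι R e0 * μ = -(μ * ι R e0) := by
      rw [eq_neg_iff_add_eq_zero, hμ]
      exact ι_add_mul_swap _ _
    have hJμ : map incl (ι R (pr m')) = μ := by rw [map_apply_ι]
    have hπ : map pr (ι R m') = ι R (pr m') := map_apply_ι _ _
    -- the right hand side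
    have h1 : map incl (map pr (cL ε0 (ι R m' * w))) = ε0 m' • B - μ * A := by
      rw [cL_ι_mul, map_sub, map_smul, map_mul, hπ, map_sub, map_smul, map_mul, hJμ]
    have h2 : map incl (map pr (ι R m' * w)) = μ * B := by
      rw [map_mul, hπ, map_mul, hJμ]
    rw [h1, h2]
    nth_rewrite 1 [hw]
    rw [hm, add_mul, mul_add, mul_add, smul_mul_assoc, smul_mul_assoc, ← mul_assoc (ι R e0),
      ι_sq_zero, zero_mul, smul_zero, zero_add, mul_sub, mul_smul_comm, ← mul_assoc (ι R e0) μ,
      hanti, neg_mul, mul_assoc]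
    abel

/-- description of `⋀^(q+1) M'` -/
theorem SplitData.mem_succ_iff {q : ℕ} (z : ExteriorAlgebra R M') :
    z ∈ ⋀[R]^(q + 1) M' ↔ ∃ a ∈ ⋀[R]^q M, ∃ b ∈ ⋀[R]^(q + 1) M,
      z = ι R e0 * map incl a + map incl b := by
  constructor
  · intro hz
    exact ⟨_, map_mem pr (cL_mem ε0 hz), _, map_mem pr hz, h.split_id z⟩
  · rintro ⟨a, ha, b, hb, rfl⟩
    exact Submodule.add_mem _ (ι_mul_mem e0 (map_mem incl ha)) (map_mem incl hb)

theorem SplitData.mem_zero_iff' (z : ExteriorAlgebra R M') :
    z ∈ ⋀[R]^0 M' ↔ ∃ b ∈ ⋀[R]^0 M, z = map incl b := by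
  constructor
  · intro hz
    obtain ⟨r, rfl⟩ := mem_zero_iff.1 hz
    exact ⟨algebraMap R _ r, mem_zero_iff.2 ⟨r, rfl⟩, (AlgHom.commutes _ r).symm⟩
  · rintro ⟨b, hb, rfl⟩
    exact map_mem incl hb

end Split

end Groth.Agent.Lib.Helper6.Wiebe
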