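import Mathlib
import Groth.Prelude.Def_LCI2
import Groth.Agent.Lib.Helper8.KP1
import Groth.Agent.Lib.Helper3.KosBC5
import Groth.Agent.Lib.Helper6.Wiebe.WBb

set_option autoImplicit false
set_option linter.unusedSectionVars false
set_option linter.unusedVariables false
set_option linter.unusedSimpArgs false
set_option linter.style.haveILetI false
set_option maxHeartbeats 400000

/-!
# The mapping-cone Koszul complex is modelled by contraction on the exterior algebra
-/

universe u

namespace Groth.Agent.Lib.Helper6.Wiebe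

open ExteriorAlgebra CategoryTheory CategoryTheory.Limits CochainComplex
open Groth.Agent.Helper8.KoszulLib

variable {R : Type u} [CommRing R]

/-- A model of a cochain complex by the contraction complex on an exterior algebra. -/
structure Model (K : CochainComplex (ModuleCat.{u} R) ℤ) {M : Type u} [AddCommGroup M]
    [Module R M] (φ : Module.Dual R M) where
  θ : ∀ p : ℤ, K.X p →ₗ[R] ExteriorAlgebra R M
  inj : ∀ p, Function.Injective (θ p)
  range_nonpos : ∀ q : ℕ, LinearMap.range (θ (-(q : ℤ))) = ⋀[R]^q M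
  range_pos : ∀ p : ℤ, 0 < p → ∀ z, θ p z = 0
  comm : ∀ (p p' : ℤ) (hp : p + 1 = p') (z : K.X p), θ p' ((K.d p p').hom z) = cL φ (θ p z)

section ModelLemmas

variable {K : CochainComplex (ModuleCat.{u} R) ℤ} {M : Type u} [AddCommGroup M]
    [Module R M] {φ : Module.Dual R M}

theorem Model.range_of_eq (m : Model K φ) (p : ℤ) (q : ℕ) (h : p = -(q : ℤ)) :
    LinearMap.range (m.θ p) = ⋀[R]^q M := by
  subst h
  exact m.range_nonpos q

/-- exactness of the contraction complex from acyclicity of the modelled complex -/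
theorem Model.exact (m : Model K φ) (hK : ∀ i : ℤ, i ≠ 0 → IsZero (K.homology i)) (q : ℕ)
    (z : ExteriorAlgebra R M) (hz : z ∈ ⋀[R]^(q + 1) M) (hcz : cL φ z = 0) :
    ∃ w ∈ ⋀[R]^(q + 2) M, cL φ w = z := by
  set p : ℤ := -((q + 1 : ℕ) : ℤ) with hp
  rw [← m.range_of_eq p (q + 1) hp] at hz
  obtain ⟨k, rfl⟩ := hz
  have h1 : (K.d p (p + 1)).hom k = 0 := by
    apply m.inj (p + 1)
    rw [m.comm p (p + 1) rfl, hcz, map_zero]
  have hex := (Groth.Agent.Helper3.KosBC.exact_iff_isZero_homology K (p - 1) p (p + 1)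
    (by ring) rfl).2 (hK p (by rw [hp]; push_cast; omega))
  obtain ⟨k', hk'⟩ := (hex k).1 h1
  refine ⟨m.θ (p - 1) k', ?_, ?_⟩
  · rw [← m.range_of_eq (p - 1) (q + 2) (by rw [hp]; push_cast; ring)]
    exact ⟨k', rfl⟩
  · rw [← m.comm (p - 1) p (by ring), hk']

end ModelLemmas

section Base

/-- the exterior powers of a trivial module vanish in positive degrees -/
theorem exteriorPower_eq_bot_of_subsingleton {M : Type u} [AddCommGroup M] [Module R M]
    [Subsingleton M] {q : ℕ} (hq : q ≠ 0) : (⋀[R]^q M : Submodule R (ExteriorAlgebra R M)) = ⊥ := by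
  have h1 : LinearMap.range (ι R (M := M)) = ⊥ := by
    rw [eq_bot_iff]
    rintro _ ⟨m, rfl⟩
    rw [Subsingleton.elim m 0, map_zero]
    exact Submodule.zero_mem _
  rw [ExteriorAlgebra.exteriorPower, h1, ← Submodule.zero_eq_bot, zero_pow hq]

/-- the degree zero term of the single complex, as a linear equivalence with `R` -/
noncomputable def singleEquiv (p : ℤ) (h : p = 0) :
    ((CochainComplex.singleFunctor (ModuleCat.{u} R) 0).obj (ModuleCat.of R R)).X p ≃ₗ[R] R :=
  (HomologicalComplex.singleObjXIsoOfEq (ComplexShape.up ℤ) 0 (ModuleCat.of R R) p h).toLinearEquiv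

/-- the base maps -/
noncomputable def baseθ (M : Type u) [AddCommGroup M] [Module R M] (p : ℤ) :
    ((CochainComplex.singleFunctor (ModuleCat.{u} R) 0).obj (ModuleCat.of R R)).X p →ₗ[R]
      ExteriorAlgebra R M :=
  if h : p = 0 then
    (Algebra.linearMap R (ExteriorAlgebra R M)) ∘ₗ (singleEquiv (R := R) p h).toLinearMap
  else 0

theorem baseθ_of_eq (M : Type u) [AddCommGroup M] [Module R M] (p : ℤ) (h : p = 0)
    (z : ((CochainComplex.singleFunctor (ModuleCat.{u} R) 0).obj (ModuleCat.of R R)).X p) :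
    baseθ M p z = algebraMap R (ExteriorAlgebra R M) (singleEquiv (R := R) p h z) := by
  unfold baseθ
  rw [dif_pos h]
  rfl

theorem baseθ_of_ne (M : Type u) [AddCommGroup M] [Module R M] (p : ℤ) (h : p ≠ 0)
    (z : ((CochainComplex.singleFunctor (ModuleCat.{u} R) 0).obj (ModuleCat.of R R)).X p) :
    baseθ M p z = 0 := by
  unfold baseθ
  rw [dif_neg h]
  rfl

/-- the base model -/
noncomputable def Model.base {M : Type u} [AddCommGroup M] [Module R M] [Subsingleton M]
    (φ : Module.Dual R M) :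
    Model ((CochainComplex.singleFunctor (ModuleCat.{u} R) 0).obj (ModuleCat.of R R)) φ where
  θ p := baseθ M p
  inj p := by
    by_cases h : p = 0
    · intro a b hab
      rw [baseθ_of_eq M p h, baseθ_of_eq M p h] at hab
      exact (singleEquiv (R := R) p h).injective
        ((ExteriorAlgebra.algebraMap_leftInverse (R := R) M).injective hab)
    · have hz : IsZero (((CochainComplex.singleFunctor (ModuleCat.{u} R) 0).obj
          (ModuleCat.of R R)).X p) :=
        HomologicalComplex.isZero_single_obj_X (ComplexShape.up ℤ) 0 _ p h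
      haveI := ModuleCat.subsingleton_of_isZero hz
      intro a b _
      exact Subsingleton.elim a b
  range_nonpos q := by
    by_cases hq : q = 0
    · subst hq
      have h0 : (-((0 : ℕ) : ℤ)) = 0 := by simp
      ext z
      rw [mem_zero_iff]
      constructor
      · rintro ⟨k, rfl⟩
        exact ⟨_, (baseθ_of_eq M _ h0 k).symm⟩
      · rintro ⟨r, rfl⟩
        refine ⟨(singleEquiv (R := R) _ h0).symm r, ?_⟩
        rw [baseθ_of_eq M _ h0, LinearEquiv.apply_symm_apply]
    · have h0 : (-(q : ℤ)) ≠ 0 := by omega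
      rw [exteriorPower_eq_bot_of_subsingleton hq, eq_bot_iff]
      rintro _ ⟨k, rfl⟩
      rw [baseθ_of_ne M _ h0]
      exact Submodule.zero_mem _
  range_pos p hp z := baseθ_of_ne M p (by omega) z
  comm p p' hp z := by
    have hd : ((CochainComplex.singleFunctor (ModuleCat.{u} R) 0).obj (ModuleCat.of R R)).d p p'
        = 0 := HomologicalComplex.single_obj_d _ _ _ _ _
    rw [hd]
    have hz : (ModuleCat.Hom.hom (0 : ((CochainComplex.singleFunctor (ModuleCat.{u} R) 0).obj
        (ModuleCat.of R R)).X p ⟶ ((CochainComplex.singleFunctor (ModuleCat.{u} R) 0).obj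
        (ModuleCat.of R R)).X p')) z = 0 := by
      rw [ModuleCat.hom_zero, LinearMap.zero_apply]
    rw [hz, map_zero]
    by_cases h : p = 0
    · rw [baseθ_of_eq M p h, cL_algebraMap]
    · rw [baseθ_of_ne M p h, map_zero]

end Base

section Step

variable {K : CochainComplex (ModuleCat.{u} R) ℤ} {M M' : Type u} [AddCommGroup M] [Module R M]
  [AddCommGroup M'] [Module R M'] {φ : Module.Dual R M}
  {incl : M →ₗ[R] M'} {pr : M' →ₗ[R] M} {e0 : M'} {ε0 : Module.Dual R M'}

/-- the maps of the cone model -/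
noncomputable def stepθ (m : Model K φ) (incl : M →ₗ[R] M') (e0 : M') (a : R) (p : ℤ) :
    (mappingCone (a • 𝟙 K)).X p →ₗ[R] ExteriorAlgebra R M' :=
  (LinearMap.mulLeft R (ι R e0)) ∘ₗ (map incl).toLinearMap ∘ₗ m.θ (p + 1) ∘ₗ fstE (a • 𝟙 K) p
    + (map incl).toLinearMap ∘ₗ m.θ p ∘ₗ sndE (a • 𝟙 K) p

theorem stepθ_apply (m : Model K φ) (incl : M →ₗ[R] M') (e0 : M') (a : R) (p : ℤ)
    (z : (mappingCone (a • 𝟙 K)).X p) :
    stepθ m incl e0 a p z = ι R e0 * map incl (m.θ (p + 1) (fstE (a • 𝟙 K) p z))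
      + map incl (m.θ p (sndE (a • 𝟙 K) p z)) := rfl

theorem smul_id_f_hom (a : R) (p : ℤ) (x : K.X p) : ((a • 𝟙 K : K ⟶ K).f p).hom x = a • x := rfl

/-- the model of a cone -/
noncomputable def Model.step (m : Model K φ) (h : SplitData incl pr e0 ε0)
    (φ' : Module.Dual R M') (hφ : φ' ∘ₗ incl = φ) :
    Model (mappingCone ((φ' e0) • 𝟙 K)) φ' where
  θ p := stepθ m incl e0 (φ' e0) p
  inj p := by
    rw [injective_iff_map_eq_zero]
    intro z hz
    rw [stepθ_apply] at hz
    have h1 := h.snd_formula (m.θ (p + 1) (fstE ((φ' e0) • 𝟙 K) p z))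
      (m.θ p (sndE ((φ' e0) • 𝟙 K) p z))
    have h2 := h.fst_formula (m.θ (p + 1) (fstE ((φ' e0) • 𝟙 K) p z))
      (m.θ p (sndE ((φ' e0) • 𝟙 K) p z))
    rw [hz, map_zero] at h1
    rw [hz, map_zero, map_zero] at h2
    have h3 : sndE ((φ' e0) • 𝟙 K) p z = 0 := m.inj p (by rw [← h1, map_zero])
    have h4 : fstE ((φ' e0) • 𝟙 K) p z = 0 := m.inj (p + 1) (by rw [← h2, map_zero])
    exact ext_elem _ _ (by rw [h4, map_zero]) (by rw [h3, map_zero])
  range_nonpos q := by
    cases q with
    | zero =>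
      ext z
      rw [h.mem_zero_iff']
      constructor
      · rintro ⟨k, rfl⟩
        refine ⟨m.θ (-((0 : ℕ) : ℤ)) (sndE ((φ' e0) • 𝟙 K) _ k), ?_, ?_⟩
        · rw [← m.range_nonpos 0]
          exact ⟨_, rfl⟩
        · rw [stepθ_apply, m.range_pos _ (by simp), map_zero, mul_zero, zero_add]
      · rintro ⟨b, hb, rfl⟩
        rw [← m.range_nonpos 0] at hb
        obtain ⟨k0, rfl⟩ := hb
        refine ⟨inrE ((φ' e0) • 𝟙 K) _ k0, ?_⟩
        rw [stepθ_apply, fstE_inrE, sndE_inrE, map_zero, map_zero, mul_zero, zero_add]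
    | succ q =>
      ext z
      rw [h.mem_succ_iff]
      constructor
      · rintro ⟨k, rfl⟩
        refine ⟨m.θ _ (fstE ((φ' e0) • 𝟙 K) _ k), ?_, m.θ _ (sndE ((φ' e0) • 𝟙 K) _ k), ?_, ?_⟩
        · rw [← m.range_of_eq (-((q + 1 : ℕ) : ℤ) + 1) q (by push_cast; ring)]
          exact ⟨_, rfl⟩
        · rw [← m.range_nonpos (q + 1)]
          exact ⟨_, rfl⟩
        · rw [stepθ_apply]
      · rintro ⟨a, ha, b, hb, rfl⟩
        rw [← m.range_of_eq (-((q + 1 : ℕ) : ℤ) + 1) q (by push_cast; ring)] at ha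
        rw [← m.range_nonpos (q + 1)] at hb
        obtain ⟨ka, rfl⟩ := ha
        obtain ⟨kb, rfl⟩ := hb
        refine ⟨inlE ((φ' e0) • 𝟙 K) _ ka + inrE ((φ' e0) • 𝟙 K) _ kb, ?_⟩
        have hf : fstE ((φ' e0) • 𝟙 K) _ (inlE ((φ' e0) • 𝟙 K) _ ka + inrE ((φ' e0) • 𝟙 K) _ kb)
            = ka := by rw [map_add, fstE_inlE, fstE_inrE, add_zero]
        have hs : sndE ((φ' e0) • 𝟙 K) _ (inlE ((φ' e0) • 𝟙 K) _ ka + inrE ((φ' e0) • 𝟙 K) _ kb)
            = kb := by rw [map_add, sndE_inlE, sndE_inrE, zero_add]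
        rw [stepθ_apply, hf, hs]
  range_pos p hp z := by
    rw [stepθ_apply, m.range_pos _ hp, m.range_pos _ (by omega), map_zero, mul_zero, zero_add]
  comm p p' hp z := by
    subst hp
    rw [stepθ_apply, stepθ_apply, h.cL_split, hφ]
    have h1 := fstE_dE ((φ' e0) • 𝟙 K) p z
    have h2 := sndE_dE ((φ' e0) • 𝟙 K) p z
    unfold dE at h1 h2
    rw [h1, h2, map_neg, map_add, smul_id_f_hom, map_smul, m.comm (p + 1) (p + 1 + 1) rfl,
      m.comm p (p + 1) rfl]

end Step

section Concrete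

/-- the linear form with coefficients `x` -/
noncomputable def fnl {n : ℕ} (x : Fin n → R) : Module.Dual R (Fin n → R) :=
  Fintype.linearCombination R x

theorem fnl_apply {n : ℕ} (x : Fin n → R) (v : Fin n → R) : fnl x v = ∑ i, v i * x i := by
  unfold fnl
  rw [Fintype.linearCombination_apply]
  rfl

/-- adding a zeroth coordinate equal to `0` -/
noncomputable def inclF (n : ℕ) : (Fin n → R) →ₗ[R] (Fin (n + 1) → R) :=
  LinearMap.pi (fun i => Fin.cases 0 (fun j => LinearMap.proj j) i)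

theorem inclF_zero (n : ℕ) (v : Fin n → R) : inclF n v 0 = 0 := by
  simp [inclF]

theorem inclF_succ (n : ℕ) (v : Fin n → R) (j : Fin n) : inclF n v j.succ = v j := by
  simp [inclF]

/-- forgetting the zeroth coordinate -/
noncomputable def prF (n : ℕ) : (Fin (n + 1) → R) →ₗ[R] (Fin n → R) :=
  LinearMap.funLeft R R Fin.succ

theorem prF_apply (n : ℕ) (w : Fin (n + 1) → R) (j : Fin n) : prF n w j = w j.succ := rfl

theorem splitF (n : ℕ) :
    SplitData (inclF (R := R) n) (prF n) (Pi.single 0 1) (LinearMap.proj 0) where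
  pr_incl v := by
    funext j
    rw [prF_apply, inclF_succ]
  pr_e0 := by
    funext j
    rw [prF_apply, Pi.single_eq_of_ne (Fin.succ_ne_zero j)]
    rfl
  ε0_e0 := by simp
  ε0_incl v := by
    rw [LinearMap.proj_apply, inclF_zero]
  decomp w := by
    funext i
    refine Fin.cases ?_ (fun j => ?_) i
    · simp [inclF_zero]
    · simp [inclF_succ, prF_apply]

theorem fnl_comp_inclF {n : ℕ} (x : Fin (n + 1) → R) :
    fnl x ∘ₗ inclF n = fnl (Fin.tail x) := by
  refine LinearMap.ext (fun v => ?_)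
  rw [LinearMap.comp_apply, fnl_apply, fnl_apply, Fin.sum_univ_succ, inclF_zero, zero_mul,
    zero_add]
  refine Finset.sum_congr rfl (fun j _ => ?_)
  rw [inclF_succ]
  rfl

theorem fnl_single_zero {n : ℕ} (x : Fin (n + 1) → R) : fnl x (Pi.single 0 1) = x 0 := by
  rw [fnl_apply, Finset.sum_eq_single 0]
  · simp
  · intro i _ hi
    rw [Pi.single_eq_of_ne hi, zero_mul]
  · intro h
    exact absurd (Finset.mem_univ _) h

/-- the model of a cone, with a prescribed multiplier -/
noncomputable def Model.step' {K : CochainComplex (ModuleCat.{u} R) ℤ} {M M' : Type u}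
    [AddCommGroup M] [Module R M] [AddCommGroup M'] [Module R M'] {φ : Module.Dual R M}
    {incl : M →ₗ[R] M'} {pr : M' →ₗ[R] M} {e0 : M'} {ε0 : Module.Dual R M'}
    (m : Model K φ) (h : SplitData incl pr e0 ε0)
    (φ' : Module.Dual R M') (hφ : φ' ∘ₗ incl = φ) (a : R) (ha : φ' e0 = a) :
    Model (mappingCone (a • 𝟙 K)) φ' :=
  ha ▸ m.step h φ' hφ

/-- **The mapping cone Koszul complex is the contraction complex.** -/
theorem nonempty_model : ∀ (n : ℕ) (x : Fin n → R),
    Nonempty (Model (Koszul.koszul R (List.ofFn x)) (fnl x)) := by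
  intro n
  induction n with
  | zero =>
    intro x
    rw [List.ofFn_zero]
    exact ⟨Model.base _⟩
  | succ n ih =>
    intro x
    obtain ⟨m⟩ := ih (Fin.tail x)
    rw [List.ofFn_succ]
    exact ⟨m.step' (splitF n) (fnl x) (fnl_comp_inclF x) (x 0) (fnl_single_zero x)⟩

/-- exactness of the contraction complex of a Koszul-regular sequence -/
theorem exact_of_isKoszulRegularSeq {n : ℕ} (x : Fin n → R)
    (hx : LCI.IsKoszulRegularSeq R (List.ofFn x)) (q : ℕ)
    (z : ExteriorAlgebra R (Fin n → R)) (hz : z ∈ ⋀[R]^(q + 1) (Fin n → R))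
    (hcz : cL (fnl x) z = 0) :
    ∃ w ∈ ⋀[R]^(q + 2) (Fin n → R), cL (fnl x) w = z := by
  obtain ⟨m⟩ := nonempty_model n x
  exact m.exact hx q z hz hcz

end Concrete

end Groth.Agent.Lib.Helper6.Wiebe
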