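import Mathlib
import Groth.Agent.Lib.Helper6.Wiebe.WBb

set_option autoImplicit false
set_option linter.unusedSectionVars false
set_option linter.unusedVariables false
set_option linter.unusedSimpArgs false
set_option linter.style.haveILetI false
set_option maxHeartbeats 400000

/-!
# The top-form pairing on the exterior algebra of `Rⁿ`
-/

universe u

namespace Groth.Agent.Lib.Helper6.Wiebe

open ExteriorAlgebra Module

section Abstract

variable {R : Type u} [CommRing R] {V W : Type*} [AddCommGroup V] [Module R V]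
  [AddCommGroup W] [Module R W] {I J : Type*} [Fintype I] [Fintype J] [DecidableEq I]
  [DecidableEq J]

/-- adjoints for a pairing with (signed, permuted) dual bases -/
theorem exists_adjoint_of_dual_bases (β : V →ₗ[R] W →ₗ[R] R) (v : Basis I R V) (w : Basis J R W)
    (σ : I ≃ J) (ε : I → Rˣ)
    (hβ : ∀ i j, β (v i) (w j) = if j = σ i then (ε i : R) else 0) (ρ : V →ₗ[R] V) :
    ∃ ρ' : W →ₗ[R] W, ∀ x y, β (ρ x) y = β x (ρ' y) := by
  let ρ' : W →ₗ[R] W := ∑ i, (LinearMap.toSpanSingleton R W (w (σ i))) ∘ₗ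
    ((((ε i)⁻¹ : Rˣ) : R) • β (ρ (v i)))
  have hρ' : ∀ y, ρ' y = ∑ i, ((((ε i)⁻¹ : Rˣ) : R) * β (ρ (v i)) y) • w (σ i) := by
    intro y
    simp only [ρ', LinearMap.sum_apply, LinearMap.comp_apply, LinearMap.smul_apply,
      LinearMap.toSpanSingleton_apply, smul_eq_mul]
  refine ⟨ρ', fun x y => ?_⟩
  have key : (β.flip y) ∘ₗ ρ = β.flip (ρ' y) := by
    refine v.ext (fun k => ?_)
    rw [LinearMap.comp_apply, LinearMap.flip_apply, LinearMap.flip_apply, hρ', map_sum]
    rw [Finset.sum_eq_single k]
    · rw [map_smul, hβ, if_pos rfl, smul_eq_mul, mul_comm _ (β (ρ (v k)) y), mul_assoc,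
        Units.inv_mul, mul_one]
    · intro i _ hik
      rw [map_smul, hβ, if_neg (fun h => hik (σ.injective h)), smul_zero]
    · intro h
      exact absurd (Finset.mem_univ _) h
  have := congrArg (fun f => f x) key
  simpa [LinearMap.flip_apply] using this

/-- nondegeneracy in the second variable -/
theorem eq_zero_of_dual_bases (β : V →ₗ[R] W →ₗ[R] R) (v : Basis I R V) (w : Basis J R W)
    (σ : I ≃ J) (ε : I → Rˣ)
    (hβ : ∀ i j, β (v i) (w j) = if j = σ i then (ε i : R) else 0) (y : W)
    (hy : ∀ x, β x y = 0) : y = 0 := by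
  have h1 : ∀ i, w.repr y (σ i) = 0 := by
    intro i
    have h2 := hy (v i)
    rw [← w.sum_repr y, map_sum, Finset.sum_eq_single (σ i)] at h2
    · rw [map_smul, hβ, if_pos rfl, smul_eq_mul] at h2
      exact (Units.mul_left_eq_zero (ε i)).1 h2
    · intro j _ hj
      rw [map_smul, hβ, if_neg hj, smul_zero]
    · intro h
      exact absurd (Finset.mem_univ _) h
  apply w.repr.injective
  ext j
  rw [map_zero, Finsupp.zero_apply, ← σ.apply_symm_apply j]
  exact h1 _

end Abstract

section General

variable {R : Type u} [CommRing R] {M : Type*} [AddCommGroup M] [Module R M]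

theorem mul_mem_exteriorPower {a c : ℕ} {z w : ExteriorAlgebra R M} (hz : z ∈ ⋀[R]^a M)
    (hw : w ∈ ⋀[R]^c M) : z * w ∈ ⋀[R]^(a + c) M := by
  rw [ExteriorAlgebra.exteriorPower, pow_add]
  exact Submodule.mul_mem_mul hz hw

/-- the grade involution on homogeneous elements -/
theorem inv'_of_mem : ∀ (a : ℕ) (z : ExteriorAlgebra R M), z ∈ ⋀[R]^a M →
    inv' z = (-1 : R) ^ a • z := by
  intro a
  induction a with
  | zero =>
    intro z hz
    obtain ⟨r, rfl⟩ := mem_zero_iff.1 hz
    rw [AlgHom.commutes, pow_zero, one_smul]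
  | succ a ih =>
    intro z hz
    rw [ExteriorAlgebra.exteriorPower, pow_succ'] at hz
    refine Submodule.mul_induction_on hz (fun m hm y hy => ?_) (fun x y hx hy => ?_)
    · obtain ⟨v, rfl⟩ := hm
      rw [map_mul, inv'_ι, ih y hy, pow_succ, neg_mul, mul_smul_comm, mul_neg, mul_one, neg_smul]
    · rw [map_add, hx, hy, smul_add]

end General

section Concrete

variable {R : Type u} [CommRing R] (n : ℕ)

/-- the standard basis of the exterior algebra of `Rⁿ` -/
noncomputable abbrev bE : Basis (Finset (Fin n)) R (ExteriorAlgebra R (Fin n → R)) :=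
  (Pi.basisFun R (Fin n)).ExteriorAlgebra

/-- the coefficient of the top form -/
noncomputable def τ : ExteriorAlgebra R (Fin n → R) →ₗ[R] R := (bE n).coord Finset.univ

theorem τ_basis (S : Finset (Fin n)) :
    τ (R := R) n (bE n S) = if S = Finset.univ then 1 else 0 := by
  unfold τ
  rw [Basis.coord_apply, Basis.repr_self, Finsupp.single_apply]

theorem exteriorPower_induction {q : ℕ} {P : ExteriorAlgebra R (Fin n → R) → Prop}
    (hb : ∀ s : Set.powersetCard (Fin n) q, P (bE n s)) (h0 : P 0)
    (hadd : ∀ x y, P x → P y → P (x + y)) (hsmul : ∀ (r : R) x, P x → P (r • x)) :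
    ∀ z ∈ ⋀[R]^q (Fin n → R), P z := by
  intro z hz
  have h1 : (⟨z, hz⟩ : ⋀[R]^q (Fin n → R)) ∈
      Submodule.span R (Set.range ((Pi.basisFun R (Fin n)).exteriorPower q)) := by
    rw [Basis.span_eq]
    trivial
  suffices H : ∀ z' : ⋀[R]^q (Fin n → R), z' ∈
      Submodule.span R (Set.range ((Pi.basisFun R (Fin n)).exteriorPower q)) → P z'.1 from
    H _ h1
  intro z' hz'
  induction hz' using Submodule.span_induction with
  | mem x hx =>
    obtain ⟨s, rfl⟩ := hx
    rw [← ExteriorAlgebra.basis_eq_coe_basis]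
    exact hb s
  | zero => exact h0
  | add x y _ _ hx hy => exact hadd _ _ hx hy
  | smul r x _ hx => exact hsmul r _ hx

theorem τ_eq_zero_of_mem {q : ℕ} (hq : q ≠ n) :
    ∀ z ∈ ⋀[R]^q (Fin n → R), τ n z = 0 := by
  refine exteriorPower_induction n (fun s => ?_) (map_zero _) (fun x y hx hy => ?_)
    (fun r x hx => ?_)
  · rw [τ_basis, if_neg]
    intro h
    apply hq
    have h1 := Set.powersetCard.card_eq s
    rw [h] at h1
    simpa using h1.symm
  · rw [map_add, hx, hy, add_zero]
  · rw [map_smul, hx, smul_zero]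

theorem eq_zero_of_mem_of_lt {q : ℕ} (hq : n < q) :
    ∀ z ∈ ⋀[R]^q (Fin n → R), z = 0 := by
  refine exteriorPower_induction n (fun s => ?_) rfl (fun x y hx hy => ?_) (fun r x hx => ?_)
  · exfalso
    have h1 := Set.powersetCard.card_eq s
    have h2 := Finset.card_le_univ (s : Finset (Fin n))
    rw [Fintype.card_fin] at h2
    omega
  · rw [hx, hy, add_zero]
  · rw [hx, smul_zero]

/-- the top form -/
noncomputable def ω : ExteriorAlgebra R (Fin n → R) := bE n Finset.univ

theorem τ_ω : τ (R := R) n (ω n) = 1 := by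
  unfold ω
  rw [τ_basis, if_pos rfl]

theorem ω_mem : ω (R := R) n ∈ ⋀[R]^n (Fin n → R) := by
  have hc : (Finset.univ : Finset (Fin n)).card = n := by simp
  have := ExteriorAlgebra.basis_eq_coe_basis (Pi.basisFun R (Fin n))
    (Set.powersetCard.ofCard hc)
  unfold ω
  rw [show (Finset.univ : Finset (Fin n)) = ((Set.powersetCard.ofCard hc :
    Set.powersetCard (Fin n) n) : Finset (Fin n)) from rfl, this]
  exact Subtype.property _

end Concrete

section Pairing

variable {R : Type u} [CommRing R] (n : ℕ)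

/-- the top-form pairing `⋀^p × ⋀^q → R` -/
noncomputable def βpq (p q : ℕ) :
    (⋀[R]^p (Fin n → R)) →ₗ[R] (⋀[R]^q (Fin n → R)) →ₗ[R] R :=
  LinearMap.mk₂ R (fun x y => τ n ((x : ExteriorAlgebra R (Fin n → R)) *
      (y : ExteriorAlgebra R (Fin n → R))))
    (fun x x' y => by
      show τ n (((x + x' : ⋀[R]^p (Fin n → R)) : ExteriorAlgebra R (Fin n → R)) *
        (y : ExteriorAlgebra R (Fin n → R))) = _
      rw [Submodule.coe_add, add_mul, map_add])
    (fun c x y => by
      show τ n (((c • x : ⋀[R]^p (Fin n → R)) : ExteriorAlgebra R (Fin n → R)) *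
        (y : ExteriorAlgebra R (Fin n → R))) = _
      rw [Submodule.coe_smul, smul_mul_assoc, map_smul])
    (fun x y y' => by
      show τ n ((x : ExteriorAlgebra R (Fin n → R)) * ((y + y' : ⋀[R]^q (Fin n → R)) :
        ExteriorAlgebra R (Fin n → R))) = _
      rw [Submodule.coe_add, mul_add, map_add])
    (fun c x y => by
      show τ n ((x : ExteriorAlgebra R (Fin n → R)) * ((c • y : ⋀[R]^q (Fin n → R)) :
        ExteriorAlgebra R (Fin n → R))) = _
      rw [Submodule.coe_smul, mul_smul_comm, map_smul])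

theorem βpq_apply (p q : ℕ) (x : ⋀[R]^p (Fin n → R)) (y : ⋀[R]^q (Fin n → R)) :
    βpq n p q x y = τ n ((x : ExteriorAlgebra R (Fin n → R)) *
      (y : ExteriorAlgebra R (Fin n → R))) := rfl

theorem τ_units_smul (u : ℤˣ) (x : ExteriorAlgebra R (Fin n → R)) :
    τ n (u • x) = ((u : ℤ) : R) * τ n x := by
  rw [Units.smul_def, map_zsmul, zsmul_eq_mul]

/-- the sign attached to a subset and its complement -/
noncomputable def εs {p q : ℕ} (hpq : q + p = Fintype.card (Fin n))
    (s : Set.powersetCard (Fin n) p) : Rˣ :=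
  Units.map (Int.castRingHom R : ℤ →* R)
    (Set.powersetCard.permOfDisjoint (s := s) (t := Set.powersetCard.compl hpq s)
      (by rw [Set.powersetCard.coe_compl]; exact disjoint_compl_right)).sign

theorem βpq_basis {p q : ℕ} (hpq : q + p = Fintype.card (Fin n))
    (s : Set.powersetCard (Fin n) p) (t : Set.powersetCard (Fin n) q) :
    βpq (R := R) n p q ((Pi.basisFun R (Fin n)).exteriorPower p s)
      ((Pi.basisFun R (Fin n)).exteriorPower q t) =
      if t = Set.powersetCard.compl hpq s then ((εs n hpq s : Rˣ) : R) else 0 := by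
  rw [βpq_apply, ← ExteriorAlgebra.basis_eq_coe_basis, ← ExteriorAlgebra.basis_eq_coe_basis]
  by_cases hd : Disjoint s.val t.val
  · rw [ExteriorAlgebra.basis_mul_of_disjoint _ s t hd, τ_units_smul, τ_basis]
    have hcard : ((Set.powersetCard.disjUnion hd : Set.powersetCard (Fin n) (p + q)) :
        Finset (Fin n)).card = Fintype.card (Fin n) := by
      rw [Set.powersetCard.card_eq, ← hpq, add_comm]
    have huniv : ((Set.powersetCard.disjUnion hd : Set.powersetCard (Fin n) (p + q)) :
        Finset (Fin n)) = Finset.univ := (Finset.card_eq_iff_eq_univ _).1 hcard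
    have ht : t = Set.powersetCard.compl hpq s := by
      apply Subtype.ext
      rw [Set.powersetCard.coe_compl]
      ext a
      rw [Finset.mem_compl]
      constructor
      · intro hat has
        exact (Finset.disjoint_left.1 hd has) hat
      · intro has
        have h1 : a ∈ ((Set.powersetCard.disjUnion hd : Set.powersetCard (Fin n) (p + q)) :
            Finset (Fin n)) := by rw [huniv]; exact Finset.mem_univ a
        rw [Set.powersetCard.coe_disjUnion, Finset.mem_disjUnion] at h1
        exact h1.resolve_left has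
    subst ht
    rw [if_pos huniv, if_pos rfl, mul_one]
    rfl
  · rw [ExteriorAlgebra.basis_mul_of_not_disjoint _ s t hd, map_zero, if_neg]
    intro ht
    apply hd
    rw [ht, Set.powersetCard.coe_compl]
    exact disjoint_compl_right

/-- existence of adjoints for the top-form pairing -/
theorem exists_adjoint {p q : ℕ} (hpq : p + q = n)
    (ρ : (⋀[R]^p (Fin n → R)) →ₗ[R] (⋀[R]^p (Fin n → R))) :
    ∃ ρ' : (⋀[R]^q (Fin n → R)) →ₗ[R] (⋀[R]^q (Fin n → R)),
      ∀ (x : ⋀[R]^p (Fin n → R)) (y : ⋀[R]^q (Fin n → R)),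
        τ n (((ρ x : ⋀[R]^p (Fin n → R)) : ExteriorAlgebra R (Fin n → R)) *
            (y : ExteriorAlgebra R (Fin n → R))) =
          τ n ((x : ExteriorAlgebra R (Fin n → R)) *
            ((ρ' y : ⋀[R]^q (Fin n → R)) : ExteriorAlgebra R (Fin n → R))) := by
  classical
  have hpq' : q + p = Fintype.card (Fin n) := by rw [Fintype.card_fin]; omega
  exact exists_adjoint_of_dual_bases (βpq n p q) ((Pi.basisFun R (Fin n)).exteriorPower p)
    ((Pi.basisFun R (Fin n)).exteriorPower q) (Set.powersetCard.compl hpq') (εs n hpq')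
    (βpq_basis n hpq') ρ

/-- nondegeneracy of the top-form pairing -/
theorem eq_zero_of_pairing {p q : ℕ} (hpq : p + q = n) (y : ⋀[R]^q (Fin n → R))
    (hy : ∀ x : ⋀[R]^p (Fin n → R),
      τ n ((x : ExteriorAlgebra R (Fin n → R)) * (y : ExteriorAlgebra R (Fin n → R))) = 0) :
    y = 0 := by
  classical
  have hpq' : q + p = Fintype.card (Fin n) := by rw [Fintype.card_fin]; omega
  exact eq_zero_of_dual_bases (βpq n p q) ((Pi.basisFun R (Fin n)).exteriorPower p)
    ((Pi.basisFun R (Fin n)).exteriorPower q) (Set.powersetCard.compl hpq') (εs n hpq')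
    (βpq_basis n hpq') y hy

/-- the sign rule for contraction -/
theorem τ_cL_mul {a c : ℕ} (hac : a + c = n + 1) (φ : Module.Dual R (Fin n → R))
    {z w : ExteriorAlgebra R (Fin n → R)} (hz : z ∈ ⋀[R]^a (Fin n → R))
    (hw : w ∈ ⋀[R]^c (Fin n → R)) :
    τ n (cL φ z * w) = -(-1 : R) ^ a * τ n (z * cL φ w) := by
  have h0 : z * w = 0 :=
    eq_zero_of_mem_of_lt n (by omega : n < a + c) _ (mul_mem_exteriorPower hz hw)
  have h1 := cL_mul φ z w
  rw [h0, map_zero, inv'_of_mem a z hz, smul_mul_assoc] at h1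
  have h2 : cL φ z * w = -((-1 : R) ^ a • (z * cL φ w)) := by
    rw [eq_neg_iff_add_eq_zero]
    exact h1.symm
  rw [h2, map_neg, map_smul, smul_eq_mul, neg_mul]

/-- the top coefficient scales by the determinant -/
theorem τ_map (γ : (Fin n → R) →ₗ[R] (Fin n → R)) :
    ∀ z ∈ ⋀[R]^n (Fin n → R), τ n (ExteriorAlgebra.map γ z) = LinearMap.det γ * τ n z := by
  classical
  intro z hz
  rw [← ExteriorAlgebra.ιMulti_span_fixedDegree] at hz
  induction hz using Submodule.span_induction with
  | mem x hx =>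
    obtain ⟨v, rfl⟩ := hx
    rw [ExteriorAlgebra.map_apply_ιMulti]
    let f : (Fin n → R) [⋀^Fin n]→ₗ[R] R :=
      (τ n).compAlternatingMap (ExteriorAlgebra.ιMulti R n)
    have hf := AlternatingMap.eq_smul_basis_det (Pi.basisFun R (Fin n)) f
    have h1 : f (γ ∘ v) = LinearMap.det γ * f v := by
      rw [hf]
      simp only [AlternatingMap.smul_apply, smul_eq_mul, Basis.det_comp]
      ring
    exact h1
  | zero => rw [map_zero, map_zero, mul_zero]
  | add x y _ _ hx hy => rw [map_add, map_add, hx, hy, map_add, mul_add]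
  | smul r x _ hx => rw [map_smul, map_smul, hx, map_smul, smul_eq_mul, smul_eq_mul]; ring

end Pairing

end Groth.Agent.Lib.Helper6.Wiebe
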