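import Mathlib
import Groth.Agent.Lib.Helper6.Wiebe.WBa
import Groth.Agent.Lib.Helper6.Wiebe.WBc
import Groth.Agent.Lib.Helper6.Wiebe.WBd

set_option autoImplicit false
set_option linter.unusedSectionVars false
set_option linter.unusedVariables false
set_option linter.unusedSimpArgs false
set_option linter.style.haveILetI false
set_option maxHeartbeats 400000

/-!
# Wiebe's lemma for Koszul-regular sequences
-/

universe u

namespace Groth.Agent.Lib.Helper6.Wiebe

open ExteriorAlgebra Module Groth.Agent.Lib.Helper6.Poincare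

variable {R : Type u} [CommRing R] {n : ℕ}

/-- the graded pieces -/
abbrev Cq (R : Type u) [CommRing R] (n q : ℕ) : Type u := ↥(⋀[R]^q (Fin n → R))

instance instProjCq (q : ℕ) : Module.Projective R (Cq R n q) := by
  haveI : Module.Free R (Cq R n q) :=
    Module.Free.of_basis ((Pi.basisFun R (Fin n)).exteriorPower q)
  exact Module.Projective.of_free

/-- the contraction differential -/
noncomputable abbrev dq (x : Fin n → R) (q : ℕ) : Cq R n (q + 1) →ₗ[R] Cq R n q :=
  contrP (fnl x) q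

theorem coe_dq (x : Fin n → R) (q : ℕ) (z : Cq R n (q + 1)) :
    ((dq x q z : Cq R n q) : ExteriorAlgebra R (Fin n → R)) = cL (fnl x) z.1 := rfl

theorem dq_dq (x : Fin n → R) (q : ℕ) (z : Cq R n (q + 1 + 1)) : dq x q (dq x (q + 1) z) = 0 := by
  apply Subtype.ext
  rw [coe_dq, coe_dq, cL_cL]
  rfl

theorem dq_exact (x : Fin n → R) (hx : LCI.IsKoszulRegularSeq R (List.ofFn x)) (q : ℕ)
    (z : Cq R n (q + 1)) (hz : dq x q z = 0) : ∃ w : Cq R n (q + 1 + 1), dq x (q + 1) w = z := by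
  have h1 : cL (fnl x) z.1 = 0 := by
    rw [← coe_dq, hz]
    rfl
  obtain ⟨w, hw, hwz⟩ := exact_of_isKoszulRegularSeq x hx q z.1 z.2 h1
  exact ⟨⟨w, hw⟩, Subtype.ext hwz⟩

theorem fnl_eq_sum (x : Fin n → R) : fnl x = ∑ i, x i • (LinearMap.proj i : Module.Dual R _) := by
  refine LinearMap.ext (fun v => ?_)
  rw [fnl_apply, LinearMap.sum_apply]
  refine Finset.sum_congr rfl (fun i _ => ?_)
  rw [LinearMap.smul_apply, LinearMap.proj_apply, smul_eq_mul, mul_comm]

/-- the differential takes values in `(x) ·` -/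
theorem dq_eq_sum (x : Fin n → R) (q : ℕ) (z : Cq R n (q + 1)) :
    dq x q z = ∑ i, x i • contrP (LinearMap.proj i : Module.Dual R (Fin n → R)) q z := by
  apply Subtype.ext
  rw [coe_dq, fnl_eq_sum, cL_sum_form, Submodule.coe_sum]
  refine Finset.sum_congr rfl (fun i _ => ?_)
  rw [cL_smul_form, Submodule.coe_smul]
  rfl

/-- the linear map with `fnl g ∘ γ = fnl x` when `x = c g` -/
noncomputable def γc (c : Matrix (Fin n) (Fin n) R) : (Fin n → R) →ₗ[R] (Fin n → R) :=
  Matrix.toLin' c.transpose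

theorem det_γc (c : Matrix (Fin n) (Fin n) R) : LinearMap.det (γc c) = c.det := by
  unfold γc
  rw [LinearMap.det_toLin', Matrix.det_transpose]

theorem fnl_comp_γc (x g : Fin n → R) (c : Matrix (Fin n) (Fin n) R)
    (hc : ∀ i, x i = ∑ j, c i j * g j) : fnl g ∘ₗ γc c = fnl x := by
  refine LinearMap.ext (fun v => ?_)
  rw [LinearMap.comp_apply, fnl_apply, fnl_apply]
  unfold γc
  simp only [Matrix.toLin'_apply, Matrix.mulVec, dotProduct, Matrix.transpose_apply]
  simp_rw [hc, Finset.mul_sum, Finset.sum_mul]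
  rw [Finset.sum_comm]
  refine Finset.sum_congr rfl (fun i _ => Finset.sum_congr rfl (fun j _ => ?_))
  ring

/-- the chain map induced by the matrix -/
noncomputable abbrev Φq (c : Matrix (Fin n) (Fin n) R) (q : ℕ) : Cq R n q →ₗ[R] Cq R n q :=
  exteriorPower.map q (γc c)

theorem coe_Φq (c : Matrix (Fin n) (Fin n) R) (q : ℕ) (z : Cq R n q) :
    ((Φq c q z : Cq R n q) : ExteriorAlgebra R (Fin n → R)) = ExteriorAlgebra.map (γc c) z.1 :=
  Groth.Agent.Lib.Helper6.ExtStab.coe_map (γc c) z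

theorem Φq_comm (x g : Fin n → R) (c : Matrix (Fin n) (Fin n) R)
    (hc : ∀ i, x i = ∑ j, c i j * g j) (q : ℕ) (z : Cq R n (q + 1)) :
    dq g q (Φq c (q + 1) z) = Φq c q (dq x q z) := by
  apply Subtype.ext
  rw [coe_dq, coe_Φq, coe_Φq, cL_map, fnl_comp_γc x g c hc, coe_dq]

theorem cL_ι (φ : Module.Dual R (Fin n → R)) (m : Fin n → R) :
    cL φ (ι R m) = algebraMap R _ (φ m) :=
  CliffordAlgebra.contractLeft_ι (Q := (0 : QuadraticForm R (Fin n → R))) φ m

theorem ι_mem_one (m : Fin n → R) : ι R m ∈ ⋀[R]^1 (Fin n → R) := by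
  show ι R m ∈ LinearMap.range (ι R) ^ 1
  rw [pow_one]
  exact LinearMap.mem_range_self _ _

/-- the degree one step of the lift -/
theorem exists_lift_zero (x g : Fin n → R) (r : R)
    (hr : ∀ j, r * g j ∈ Ideal.span (Set.range x)) (z : Cq R n 1) :
    ∃ w : Cq R n 1, dq x 0 w = (r • (LinearMap.id : Cq R n 0 →ₗ[R] Cq R n 0)) (dq g 0 z) := by
  have hz : z.1 ∈ LinearMap.range (ι R (M := Fin n → R)) ^ 1 := z.2
  rw [pow_one] at hz
  obtain ⟨m, hm⟩ := hz
  have hr' : ∀ j, ∃ a : Fin n → R, ∑ i, a i * x i = r * g j := fun j =>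
    Ideal.mem_span_range_iff_exists_fun.1 (hr j)
  choose a ha using hr'
  refine ⟨⟨ι R (fun i => ∑ j, m j * a j i), ι_mem_one _⟩, ?_⟩
  apply Subtype.ext
  rw [coe_dq, LinearMap.smul_apply, LinearMap.id_apply, Submodule.coe_smul, coe_dq]
  show cL (fnl x) (ι R _) = r • cL (fnl g) z.1
  rw [← hm, cL_ι, cL_ι, Algebra.smul_def, ← map_mul, fnl_apply, fnl_apply, Finset.mul_sum]
  congr 1
  simp_rw [Finset.sum_mul]
  rw [Finset.sum_comm]
  refine Finset.sum_congr rfl (fun j _ => ?_)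
  rw [show r * (m j * g j) = m j * (r * g j) by ring, ← ha j, Finset.mul_sum]
  refine Finset.sum_congr rfl (fun i _ => ?_)
  ring

/-- adjoints of a graded family -/
theorem exists_adjoint_family (ρ : ∀ q, Cq R n q →ₗ[R] Cq R n q) :
    ∃ ρ' : ∀ q, Cq R n q →ₗ[R] Cq R n q, ∀ (p q : ℕ) (h : p + q = n) (z : Cq R n p)
      (w : Cq R n q), τ n ((ρ p z).1 * w.1) = τ n (z.1 * (ρ' q w).1) := by
  have key : ∀ q, ∃ ρ'q : Cq R n q →ₗ[R] Cq R n q, ∀ (p : ℕ) (h : p + q = n) (z : Cq R n p)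
      (w : Cq R n q), τ n ((ρ p z).1 * w.1) = τ n (z.1 * (ρ'q w).1) := by
    intro q
    by_cases hq : q ≤ n
    · obtain ⟨ρ'q, h1⟩ := exists_adjoint n (p := n - q) (q := q) (by omega) (ρ (n - q))
      refine ⟨ρ'q, fun p h z w => ?_⟩
      obtain rfl : p = n - q := by omega
      exact h1 z w
    · exact ⟨0, fun p h z w => by omega⟩
  choose ρ' hρ' using key
  exact ⟨ρ', fun p q h z w => hρ' q p h z w⟩

theorem neg_one_pow_mul_self (a : ℕ) : (-(-1 : R) ^ a) * (-(-1 : R) ^ a) = 1 := by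
  rw [neg_mul_neg, ← pow_add, ← two_mul, pow_mul]
  simp

/-- the adjoint family of a chain map is a chain map -/
theorem adjoint_comm (x g : Fin n → R) (ρ ρ' : ∀ q, Cq R n q →ₗ[R] Cq R n q)
    (hadj : ∀ (p q : ℕ) (h : p + q = n) (z : Cq R n p) (w : Cq R n q),
      τ n ((ρ p z).1 * w.1) = τ n (z.1 * (ρ' q w).1))
    (hρ : ∀ q z, dq x q (ρ (q + 1) z) = ρ q (dq g q z)) (q : ℕ) (w : Cq R n (q + 1)) :
    dq g q (ρ' (q + 1) w) = ρ' q (dq x q w) := by
  by_cases hq : q < n
  · obtain ⟨p, hp⟩ : ∃ p, p + 1 + q = n := ⟨n - q - 1, by omega⟩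
    rw [← sub_eq_zero]
    refine eq_zero_of_pairing n (p := p + 1) (q := q) hp _ (fun z => ?_)
    rw [Submodule.coe_sub, mul_sub, map_sub, sub_eq_zero, coe_dq]
    have hs1 := τ_cL_mul n (a := p + 1) (c := q + 1) (by omega) (fnl g) z.2 (ρ' (q + 1) w).2
    have hs2 := τ_cL_mul n (a := p + 1) (c := q + 1) (by omega) (fnl x) (ρ (p + 1) z).2 w.2
    have e1 : τ n (cL (fnl g) z.1 * (ρ' (q + 1) w).1) = τ n ((ρ p (dq g p z)).1 * w.1) := by
      rw [hadj p (q + 1) (by omega) (dq g p z) w, coe_dq]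
    have e2 : τ n ((ρ p (dq g p z)).1 * w.1) = τ n (cL (fnl x) (ρ (p + 1) z).1 * w.1) := by
      rw [← hρ p z, coe_dq]
    have e3 : τ n ((ρ (p + 1) z).1 * cL (fnl x) w.1) = τ n (z.1 * (ρ' q (dq x q w)).1) := by
      rw [← hadj (p + 1) q hp z (dq x q w), coe_dq]
    rw [e1, e2, hs2, e3] at hs1
    have h3 := congrArg (fun t => (-(-1 : R) ^ (p + 1)) * t) hs1
    simp only [← mul_assoc, neg_one_pow_mul_self, one_mul] at h3
    exact h3.symm
  · have hw : w = 0 := Subtype.ext (eq_zero_of_mem_of_lt n (by omega) w.1 w.2)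
    simp only [hw, map_zero]

/-- **Wiebe's lemma** for Koszul-regular sequences: if `x = c g` then `((x) : (g)) = (x) + (det c)`
(the nontrivial inclusion). -/
theorem wiebe (x g : Fin n → R) (hx : LCI.IsKoszulRegularSeq R (List.ofFn x))
    (hg : LCI.IsKoszulRegularSeq R (List.ofFn g)) (c : Matrix (Fin n) (Fin n) R)
    (hc : ∀ i, x i = ∑ j, c i j * g j) (r : R)
    (hr : ∀ j, r * g j ∈ Ideal.span (Set.range x)) :
    r ∈ Ideal.span (Set.range x) ⊔ Ideal.span {c.det} := by
  cases n with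
  | zero =>
    have h1 : c.det = 1 := Matrix.det_isEmpty
    rw [h1, Ideal.span_singleton_one, sup_top_eq]
    trivial
  | succ m =>
    -- the lift of `r`
    obtain ⟨ρ, hρ0, hρ⟩ := exists_chain_lift (C := Cq R (m + 1)) (D := Cq R (m + 1))
      (dC := dq g) (dD := dq x) (dq_dq g) (dq_exact x hx)
      (r • LinearMap.id) (exists_lift_zero x g r hr)
    obtain ⟨ρ', hadj⟩ := exists_adjoint_family ρ
    have hρ' := adjoint_comm x g ρ ρ' hadj hρ
    -- the scalar `s`
    let one0 : Cq R (m + 1) 0 := ⟨1, mem_zero_iff.2 ⟨1, map_one _⟩⟩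
    obtain ⟨s, hs⟩ := mem_zero_iff.1 (ρ' 0 one0).2
    -- the difference
    let δ : ∀ q, Cq R (m + 1) q →ₗ[R] Cq R (m + 1) q := fun q => ρ' q - s • Φq c q
    have hδ : ∀ q z, dq g q (δ (q + 1) z) = δ q (dq x q z) := by
      intro q z
      simp only [δ, LinearMap.sub_apply, LinearMap.smul_apply, map_sub, map_smul, hρ',
        Φq_comm x g c hc]
    have hδ0 : δ 0 = 0 := by
      refine LinearMap.ext (fun w => ?_)
      obtain ⟨t, ht⟩ := mem_zero_iff.1 w.2
      have hw : w = t • one0 := Subtype.ext (by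
        rw [← ht, Submodule.coe_smul, Algebra.algebraMap_eq_smul_one])
      apply Subtype.ext
      simp only [δ, LinearMap.sub_apply, LinearMap.smul_apply, Submodule.coe_sub,
        Submodule.coe_smul, LinearMap.zero_apply, Submodule.coe_zero]
      rw [coe_Φq, hw, map_smul, Submodule.coe_smul, ← hs, Submodule.coe_smul, map_smul]
      show t • algebraMap R _ s - s • t • ExteriorAlgebra.map (γc c) 1 = 0
      rw [map_one, Algebra.algebraMap_eq_smul_one, smul_comm, sub_self]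
    -- the homotopy
    obtain ⟨h, hh⟩ := exists_homotopy (C := Cq R (m + 1)) (D := Cq R (m + 1))
      (dC := dq x) (dD := dq g) (f := δ) (dq_dq x) (dq_exact g hg) hδ hδ0
    let ω' : Cq R (m + 1) (m + 1) := ⟨ω (m + 1), ω_mem (m + 1)⟩
    have h1 := hh m ω'
    have h2 : h (m + 1) ω' = 0 :=
      Subtype.ext (eq_zero_of_mem_of_lt (m + 1) (by omega) _ (h (m + 1) ω').2)
    rw [h2, map_zero, zero_add, dq_eq_sum, map_sum] at h1
    -- evaluate the top coefficient
    have h3 : τ (m + 1) (δ (m + 1) ω').1 = r - s * c.det := by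
      simp only [δ, LinearMap.sub_apply, LinearMap.smul_apply, Submodule.coe_sub,
        Submodule.coe_smul, map_sub, map_smul, smul_eq_mul]
      congr 1
      · have h5 := hadj 0 (m + 1) (by omega) one0 ω'
        rw [hρ0, LinearMap.smul_apply, LinearMap.id_apply, Submodule.coe_smul] at h5
        have h6 : (one0 : Cq R (m + 1) 0).1 = 1 := rfl
        rw [h6, one_mul, smul_mul_assoc, one_mul, map_smul] at h5
        rw [← h5]
        show r • τ (m + 1) (ω (m + 1)) = r
        rw [τ_ω, smul_eq_mul, mul_one]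
      · rw [coe_Φq]
        show s * τ (m + 1) (ExteriorAlgebra.map (γc c) (ω (m + 1))) = _
        rw [τ_map (m + 1) (γc c) _ (ω_mem (m + 1)), τ_ω, mul_one, det_γc]
    have h4 : τ (m + 1) (δ (m + 1) ω').1 ∈ Ideal.span (Set.range x) := by
      rw [h1, Submodule.coe_sum, map_sum]
      refine Ideal.sum_mem _ (fun i _ => ?_)
      rw [map_smul, Submodule.coe_smul, map_smul, smul_eq_mul]
      exact Ideal.mul_mem_right _ _ (Ideal.subset_span ⟨i, rfl⟩)
    rw [h3] at h4
    have h7 : r = (r - s * c.det) + s * c.det := by ring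
    rw [h7]
    exact Ideal.add_mem _ (Ideal.mem_sup_left h4)
      (Ideal.mem_sup_right (Ideal.mul_mem_left _ _ (Ideal.subset_span rfl)))

/-- the easy inclusion: `det c · g ⊆ (x)` -/
theorem det_mul_mem (x g : Fin n → R) (c : Matrix (Fin n) (Fin n) R)
    (hc : ∀ i, x i = ∑ j, c i j * g j) (j : Fin n) :
    c.det * g j ∈ Ideal.span (Set.range x) := by
  have hx : x = c.mulVec g := by
    funext i
    rw [hc i]
    rfl
  have h1 : c.adjugate.mulVec x = c.det • g := by
    rw [hx, Matrix.mulVec_mulVec, Matrix.adjugate_mul, Matrix.smul_mulVec, Matrix.one_mulVec]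
  have h2 : c.det * g j = ∑ i, c.adjugate j i * x i := by
    have := congrFun h1 j
    rw [Pi.smul_apply, smul_eq_mul] at this
    rw [← this]
    rfl
  rw [h2]
  exact Ideal.sum_mem _ (fun i _ => Ideal.mul_mem_left _ _ (Ideal.subset_span ⟨i, rfl⟩))

end Groth.Agent.Lib.Helper6.Wiebe
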