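import Mathlib
import Groth.Prelude.Def_LCI2
import Groth.Prelude.Def_Disc
import Groth.Agent.Lib.Helper3.KosBC5
import Groth.Agent.Lib.Helper6.Wiebe.WBe

set_option autoImplicit false
set_option linter.unusedSectionVars false
set_option linter.unusedVariables false
set_option linter.unusedSimpArgs false
set_option linter.style.haveILetI false
set_option maxHeartbeats 400000

/-!
# Koszul-regular sequences after tensoring with a flat algebra, and the annihilator of the diagonal
-/

universe u

namespace Groth.Agent.Lib.Helper6.Wiebe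

open TensorProduct CategoryTheory CategoryTheory.Limits CochainComplex CohIII
open Groth.Agent.Helper8.KoszulLib Groth.Agent.Helper5.FlatBC Groth.Agent.Helper3.KosBC

/-- Koszul-regular sequences stay Koszul-regular after tensoring with a flat algebra of the base -/
theorem isKoszulRegularSeq_tensor_of_flat (A P B' : Type u) [CommRing A] [CommRing P]
    [CommRing B'] [Algebra A P] [Algebra A B'] [Module.Flat A B'] (l : List P)
    (hl : LCI.IsKoszulRegularSeq P l) :
    LCI.IsKoszulRegularSeq (P ⊗[A] B') (l.map (algebraMap P (P ⊗[A] B'))) := by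
  rw [isKoszulRegularSeq_iff] at hl
  set K := koszulCx (ModuleCat.of P P) l with hK
  rw [isKoszulRegularSeq_iff]
  intro j hj
  rcases lt_or_gt_of_ne hj with hneg | hpos
  · have hex : Function.Exact (K.d (j - 1) j).hom (K.d j (j + 1)).hom :=
      (exact_iff_isZero_homology K (j - 1) j (j + 1) (by ring) rfl).2 (hl j hj)
    have hex' : Function.Exact (((UA A P).map (K.d (j - 1) j)).hom.rTensor B')
        (((UA A P).map (K.d j (j + 1))).hom.rTensor B') :=
      Module.Flat.rTensor_exact B' hex
    have h1 := isZero_homology_Ec_of_exact A P B' K (j - 1) j (j + 1) (by ring) rfl hex'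
    obtain ⟨e⟩ := nonempty_map_koszulCx_iso (Ef (R := P) (P ⊗[A] B')) (ModuleCat.of P P)
      (ModuleCat.of (P ⊗[A] B') (P ⊗[A] B')) (EfUnitIso P (P ⊗[A] B')) l _
      (forall₂_compat_Ef P (P ⊗[A] B') l)
    exact h1.of_iso ((HomologicalComplex.homologyFunctor _ _ _).mapIso e.symm)
  · exact isZero_homology_of_pos _ _ j hpos

/-- the annihilator of the diagonal, for a general name of the ideal -/
theorem annihilator_diagonal_aux {A P : Type u} [CommRing A] [CommRing P] [Algebra A P]
    {n : ℕ} (f : Fin n → P) (hf : LCI.IsKoszulRegularSeq P (List.ofFn f))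
    (I : Ideal P) (hI : I = Ideal.span (Set.range f))
    [Module.Flat A (P ⧸ I)]
    (g : Fin n → P ⊗[A] (P ⧸ I))
    (hg : LCI.IsKoszulRegularSeq (P ⊗[A] (P ⧸ I)) (List.ofFn g))
    (hgker : Ideal.span (Set.range g) = RingHom.ker (Algebra.TensorProduct.productMap
      (Ideal.Quotient.mkₐ A I) (AlgHom.id A (P ⧸ I))))
    (c : Matrix (Fin n) (Fin n) (P ⊗[A] (P ⧸ I)))
    (hc : ∀ i, f i ⊗ₜ[A] (1 : P ⧸ I) = ∑ j, c i j * g j) :
    Submodule.annihilator (RingHom.ker
        (Algebra.TensorProduct.lmul' (S := P ⧸ I) A)) =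
      Ideal.span {Algebra.TensorProduct.map (Ideal.Quotient.mkₐ A I)
        (AlgHom.id A (P ⧸ I)) (Matrix.det c)} := by
  set π := Algebra.TensorProduct.map (Ideal.Quotient.mkₐ A I) (AlgHom.id A (P ⧸ I)) with hπ
  set x : Fin n → P ⊗[A] (P ⧸ I) := fun i => f i ⊗ₜ[A] (1 : P ⧸ I) with hxdef
  have hmk : Function.Surjective (Ideal.Quotient.mkₐ A I) := Ideal.Quotient.mkₐ_surjective A I
  have hπs : Function.Surjective π :=
    Algebra.TensorProduct.map_surjective _ _ hmk (fun b => ⟨b, rfl⟩)
  -- the kernel of `π`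
  have hkerπ : RingHom.ker π = Ideal.span (Set.range x) := by
    have h1 : RingHom.ker (Ideal.Quotient.mkₐ A I) = I := Ideal.Quotient.mkₐ_ker A I
    rw [hπ, Algebra.TensorProduct.rTensor_ker _ hmk, h1]
    have h2 : Ideal.map (Algebra.TensorProduct.includeLeft : P →ₐ[A] P ⊗[A] (P ⧸ I)) I =
        Ideal.map (Algebra.TensorProduct.includeLeft : P →ₐ[A] P ⊗[A] (P ⧸ I))
          (Ideal.span (Set.range f)) := congrArg _ hI
    rw [h2, Ideal.map_span, ← Set.range_comp]
    rfl
  -- Koszul regularity of `x`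
  have hx : LCI.IsKoszulRegularSeq (P ⊗[A] (P ⧸ I)) (List.ofFn x) := by
    have h1 := isKoszulRegularSeq_tensor_of_flat A P (P ⧸ I) (List.ofFn f) hf
    rw [List.map_ofFn] at h1
    exact h1
  -- the diagonal ideal
  have hJ : RingHom.ker (Algebra.TensorProduct.productMap (Ideal.Quotient.mkₐ A I)
      (AlgHom.id A (P ⧸ I))) =
      Ideal.comap π (RingHom.ker (Algebra.TensorProduct.lmul' (S := P ⧸ I) A)) := by
    rw [Algebra.TensorProduct.productMap_eq_comp_map]
    ext z
    rw [Ideal.mem_comap, RingHom.mem_ker, RingHom.mem_ker]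
    rfl
  rw [hJ] at hgker
  have hgJ : ∀ j, π (g j) ∈ RingHom.ker (Algebra.TensorProduct.lmul' (S := P ⧸ I) A) := by
    intro j
    have h1 : g j ∈ Ideal.span (Set.range g) := Ideal.subset_span ⟨j, rfl⟩
    rw [hgker] at h1
    exact h1
  have hc' : ∀ i, x i = ∑ j, c i j * g j := hc
  apply le_antisymm
  · intro z hz
    rw [Submodule.mem_annihilator] at hz
    obtain ⟨r, rfl⟩ := hπs z
    have hr : ∀ j, r * g j ∈ Ideal.span (Set.range x) := by
      intro j
      rw [← hkerπ, RingHom.mem_ker, map_mul]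
      exact hz _ (hgJ j)
    have h1 := wiebe x g hx hg c hc' r hr
    obtain ⟨u, hu, v, hv, rfl⟩ := Submodule.mem_sup.1 h1
    obtain ⟨t, rfl⟩ := Ideal.mem_span_singleton'.1 hv
    rw [← hkerπ, RingHom.mem_ker] at hu
    rw [map_add, hu, zero_add, map_mul]
    exact Ideal.mul_mem_left _ _ (Ideal.subset_span rfl)
  · rw [Ideal.span_le, Set.singleton_subset_iff]
    show π c.det ∈ Submodule.annihilator _
    rw [Submodule.mem_annihilator]
    intro y hy
    obtain ⟨y', rfl⟩ := hπs y
    have hy' : y' ∈ Ideal.span (Set.range g) := by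
      rw [hgker]
      exact hy
    rw [smul_eq_mul, ← map_mul, ← RingHom.mem_ker, hkerπ]
    -- `det c * y' ∈ (x)`
    refine Submodule.span_induction (p := fun y' _ => c.det * y' ∈ Ideal.span (Set.range x))
      ?_ ?_ ?_ ?_ hy'
    · rintro _ ⟨j, rfl⟩
      exact det_mul_mem x g c hc' j
    · rw [mul_zero]
      exact Submodule.zero_mem _
    · intro a b _ _ ha hb
      rw [mul_add]
      exact Submodule.add_mem _ ha hb
    · intro a b _ hb
      rw [smul_eq_mul, mul_left_comm]
      exact Ideal.mul_mem_left _ _ hb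

/-- **Annihilator of the diagonal** (Stacks-style statement) -/
theorem annihilator_diagonal {A P : Type u} [CommRing A] [CommRing P] [Algebra A P]
    {n : ℕ} (f : Fin n → P) (hf : LCI.IsKoszulRegularSeq P (List.ofFn f))
    [Module.Flat A (P ⧸ Ideal.span (Set.range f))]
    (g : Fin n → P ⊗[A] (P ⧸ Ideal.span (Set.range f)))
    (hg : LCI.IsKoszulRegularSeq (P ⊗[A] (P ⧸ Ideal.span (Set.range f))) (List.ofFn g))
    (hgker : Ideal.span (Set.range g) = RingHom.ker (Algebra.TensorProduct.productMap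
      (Ideal.Quotient.mkₐ A (Ideal.span (Set.range f))) (AlgHom.id A (P ⧸ Ideal.span (Set.range f)))))
    (c : Matrix (Fin n) (Fin n) (P ⊗[A] (P ⧸ Ideal.span (Set.range f))))
    (hc : ∀ i, f i ⊗ₜ[A] (1 : P ⧸ Ideal.span (Set.range f)) = ∑ j, c i j * g j) :
    Submodule.annihilator (RingHom.ker
        (Algebra.TensorProduct.lmul' (S := P ⧸ Ideal.span (Set.range f)) A)) =
      Ideal.span {Algebra.TensorProduct.map (Ideal.Quotient.mkₐ A (Ideal.span (Set.range f)))
        (AlgHom.id A (P ⧸ Ideal.span (Set.range f))) (Matrix.det c)} :=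
  annihilator_diagonal_aux f hf (Ideal.span (Set.range f)) rfl g hg hgker c hc

end Groth.Agent.Lib.Helper6.Wiebe
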